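import Mathlib.Algebra.Category.ModuleCat.Sheaf.Quasicoherent
import Mathlib.Algebra.Category.ModuleCat.Sheaf.Limits
import Mathlib.Algebra.Category.ModuleCat.Presheaf.EpiMono
import Mathlib.Algebra.Category.ModuleCat.ChangeOfRings
import Mathlib.Algebra.Category.ModuleCat.Descent
import Mathlib.Algebra.Homology.ShortComplex.ExactFunctor
import Mathlib.Algebra.Homology.ShortComplex.ShortExact
import Mathlib.Algebra.Homology.ShortComplex.ModuleCat
import Groth.Prelude.Def_ModSite

/-!
Quasi-coherent modules on a small category with the chaotic topology: base change criterion.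
-/

open CategoryTheory Limits Opposite
open scoped TensorProduct ChangeOfRings

universe u

namespace Groth.Agent.Lib.H15.Chaotic.Basic

/-- Only maximal sieves are covering. -/
class IsChaotic {C : Type u} [SmallCategory C] (J : GrothendieckTopology C) : Prop where
  eq_top : ∀ ⦃X : C⦄ (S : Sieve X), S ∈ J X → S = ⊤

variable {C : Type u} [SmallCategory C]

instance : IsChaotic (⊥ : GrothendieckTopology C) where
  eq_top _ S h := GrothendieckTopology.bot_covering.1 h

instance {J : GrothendieckTopology C} [IsChaotic J] (U : C) : IsChaotic (J.over U) where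
  eq_top Y S h := by
    have h' := IsChaotic.eq_top _ ((J.mem_over_iff S).1 h)
    apply (Sieve.overEquiv Y).injective
    rw [h', eq_comm, Sieve.ext_iff]
    intro Z g
    simp [Sieve.overEquiv_iff]

variable {J : GrothendieckTopology C} [IsChaotic J]

lemma isSheaf_of_isChaotic {A : Type*} [Category A] (P : Cᵒᵖ ⥤ A) : Presheaf.IsSheaf J P := by
  intro T X S hS
  rw [IsChaotic.eq_top S hS]
  exact Presieve.isSheafFor_top_sieve _

instance (R : Sheaf J RingCat.{u}) : (SheafOfModules.forget.{u} R).IsEquivalence where
  essSurj := ⟨fun M => ⟨⟨M, isSheaf_of_isChaotic _⟩, ⟨Iso.refl _⟩⟩⟩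

noncomputable instance (R : Sheaf J RingCat.{u}) (X : Cᵒᵖ) :
    PreservesColimitsOfSize.{u, u} (SheafOfModules.evaluation.{u} R X) :=
  inferInstanceAs (PreservesColimitsOfSize.{u, u}
    (SheafOfModules.forget R ⋙ PresheafOfModules.evaluation _ X))

variable (O : Sheaf J CommRingCat.{u})

/-- Sections over an object, as a module over the commutative ring. -/
noncomputable def ev (U : C) : ModSite.Mod O ⥤ ModuleCat.{u} (O.obj.obj (op U)) :=
  SheafOfModules.evaluation.{u} (ModSite.ringSh O) (op U)

noncomputable instance (U : C) : PreservesColimitsOfSize.{u, u} (ev O U) :=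
  inferInstanceAs (PreservesColimitsOfSize.{u, u}
    (SheafOfModules.evaluation.{u} (ModSite.ringSh O) (op U)))

noncomputable instance (U : C) : PreservesFiniteLimits (ev O U) :=
  inferInstanceAs (PreservesFiniteLimits (SheafOfModules.evaluation.{u} (ModSite.ringSh O) (op U)))

noncomputable instance (U : C) : PreservesFiniteColimits (ev O U) :=
  PreservesColimitsOfSize.preservesFiniteColimits.{u, u} _

instance (U : C) : (ev O U).Additive :=
  inferInstanceAs ((SheafOfModules.forget.{u} (ModSite.ringSh O) ⋙
    PresheafOfModules.evaluation _ (op U)).Additive)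

/-- Restriction of sections. -/
noncomputable def res {U V : C} (g : U ⟶ V) (M : ModSite.Mod O) (m : (ev O V).obj M) :
    (ev O U).obj M := (M.val.map g.op).hom m

/-- The base change transformation. -/
noncomputable def bc {U V : C} (g : U ⟶ V) :
    ev O V ⋙ ModuleCat.extendScalars (O.obj.map g.op).hom ⟶ ev O U where
  app M := ((ModuleCat.extendRestrictScalarsAdj (O.obj.map g.op).hom).homEquiv
    (M.val.obj (op V) : ModuleCat.{u} (O.obj.obj (op V)))
    (M.val.obj (op U) : ModuleCat.{u} (O.obj.obj (op U)))).symm (M.val.map g.op)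
  naturality M N φ := by
    apply ((ModuleCat.extendRestrictScalarsAdj (O.obj.map g.op).hom).homEquiv _ _).injective
    refine (Adjunction.homEquiv_naturality_left _ _ _).trans ?_
    refine Eq.trans ?_ (Adjunction.homEquiv_naturality_right _ _ _).symm
    erw [Equiv.apply_symm_apply, Equiv.apply_symm_apply]
    exact (φ.val.naturality g.op).symm

lemma bc_one_tmul {U V : C} (g : U ⟶ V) (M : ModSite.Mod O) (m : (ev O V).obj M) :
    ((bc O g).app M).hom ((1 : O.obj.obj (op U)) ⊗ₜ[O.obj.obj (op V),(O.obj.map g.op).hom] m) =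
      res O g M m := by
  have := ModuleCat.extendRestrictScalarsAdj_homEquiv_apply (f := (O.obj.map g.op).hom)
    (φ := (bc O g).app M) m
  refine Eq.trans this.symm ?_
  simp only [bc]
  erw [Equiv.apply_symm_apply]
  rfl

lemma bc_tmul {U V : C} (g : U ⟶ V) (M : ModSite.Mod O) (s : O.obj.obj (op U))
    (m : (ev O V).obj M) :
    ((bc O g).app M).hom (s ⊗ₜ[O.obj.obj (op V),(O.obj.map g.op).hom] m) =
      s • res O g M m := by
  rw [← bc_one_tmul O g M m]
  refine Eq.trans ?_ (map_smul ((bc O g).app M).hom s _)
  congr 1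
  refine Eq.trans ?_ (ModuleCat.ExtendScalars.smul_tmul (O.obj.map g.op).hom s 1 m).symm
  rw [mul_one]
  rfl

lemma isIso_bc_unit {U V : C} (g : U ⟶ V) :
    IsIso ((bc O g).app (SheafOfModules.unit (ModSite.ringSh O))) := by
  letI := (O.obj.map g.op).hom.toAlgebra
  rw [ConcreteCategory.isIso_iff_bijective]
  have key : ∀ (s : O.obj.obj (op U)) (m : O.obj.obj (op V)),
      ((bc O g).app (SheafOfModules.unit (ModSite.ringSh O))).hom
        (s ⊗ₜ[O.obj.obj (op V),(O.obj.map g.op).hom]
          (show (ev O V).obj (SheafOfModules.unit (ModSite.ringSh O)) from m)) =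
        (s * (O.obj.map g.op).hom m :) :=
    fun s m => bc_tmul O g _ s _
  constructor
  · intro a b hab
    have h1 : ∀ x, ∃ s : O.obj.obj (op U),
        x = s ⊗ₜ[O.obj.obj (op V),(O.obj.map g.op).hom] (1 : O.obj.obj (op V)) := by
      intro x
      induction x using TensorProduct.induction_on with
      | zero => exact ⟨0, by simp⟩
      | tmul s m =>
        refine ⟨m • s, ?_⟩
        erw [TensorProduct.smul_tmul]
        simp
      | add x y hx hy =>
        obtain ⟨s, rfl⟩ := hx
        obtain ⟨t, rfl⟩ := hy
        exact ⟨s + t, by rw [TensorProduct.add_tmul]⟩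
    obtain ⟨s, rfl⟩ := h1 a
    obtain ⟨t, rfl⟩ := h1 b
    have := (key s 1).symm.trans (hab.trans (key t 1))
    simp only [map_one, mul_one] at this
    rw [this]
  · intro y
    refine ⟨y ⊗ₜ[O.obj.obj (op V),(O.obj.map g.op).hom] (1 : O.obj.obj (op V)), ?_⟩
    refine (key y 1).trans ?_
    simp

lemma isIso_app_of_isColimit {A B K : Type*} [Category A] [Category B] [Category K]
    {F G : A ⥤ B} (α : F ⟶ G) {D : K ⥤ A} (c : Cocone D) (hc : IsColimit c)
    [PreservesColimit D F] [PreservesColimit D G] (h : ∀ j, IsIso (α.app (D.obj j))) :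
    IsIso (α.app c.pt) := by
  haveI : ∀ j, IsIso ((Functor.whiskerLeft D α).app j) := h
  haveI : IsIso (Functor.whiskerLeft D α) := NatIso.isIso_of_isIso_app _
  let e := IsColimit.coconePointsIsoOfNatIso (isColimitOfPreserves F hc) (isColimitOfPreserves G hc)
    (asIso (Functor.whiskerLeft D α))
  have : α.app c.pt = e.hom := by
    apply (isColimitOfPreserves F hc).hom_ext
    intro j
    refine Eq.trans ?_ (IsColimit.ι_map (isColimitOfPreserves F hc) (G.mapCocone c) _ j).symm
    simp
  rw [this]
  infer_instance

lemma isIso_app_of_isLimit {A B K : Type*} [Category A] [Category B] [Category K]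
    {F G : A ⥤ B} (α : F ⟶ G) {D : K ⥤ A} (c : Cone D) (hc : IsLimit c)
    [PreservesLimit D F] [PreservesLimit D G] (h : ∀ j, IsIso (α.app (D.obj j))) :
    IsIso (α.app c.pt) := by
  haveI : ∀ j, IsIso ((Functor.whiskerLeft D α).app j) := h
  haveI : IsIso (Functor.whiskerLeft D α) := NatIso.isIso_of_isIso_app _
  let e := IsLimit.conePointsIsoOfNatIso (isLimitOfPreserves F hc) (isLimitOfPreserves G hc)
    (asIso (Functor.whiskerLeft D α))
  have : α.app c.pt = e.hom := by
    apply (isLimitOfPreserves G hc).hom_ext
    intro j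
    refine Eq.trans ?_ (IsLimit.map_π (F.mapCone c) (isLimitOfPreserves G hc) _ j).symm
    simp
  rw [this]
  infer_instance

lemma isIso_bc_free {U V : C} (g : U ⟶ V) (I : Type u) :
    IsIso ((bc O g).app (SheafOfModules.free I)) :=
  isIso_app_of_isColimit (bc O g) _ (SheafOfModules.isColimitFreeCofan (R := ModSite.ringSh O) I)
    (fun _ => isIso_bc_unit O g)

lemma isIso_bc_of_cokernel {U V : C} (g : U ⟶ V) {A B M : ModSite.Mod O} (f : A ⟶ B) (π : B ⟶ M)
    (w : f ≫ π = 0) (hc : IsColimit (CokernelCofork.ofπ π w)) (hA : IsIso ((bc O g).app A))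
    (hB : IsIso ((bc O g).app B)) : IsIso ((bc O g).app M) := by
  haveI : PreservesFiniteColimits (ModuleCat.extendScalars.{u, u, u} (O.obj.map g.op).hom) :=
    PreservesColimitsOfSize.preservesFiniteColimits.{u, u} _
  have key : IsIso ((bc O g).app (CokernelCofork.ofπ π w).pt) :=
    isIso_app_of_isColimit (bc O g) (D := parallelPair f 0) (CokernelCofork.ofπ π w) hc
      (fun j => WalkingParallelPair.casesOn j hA hB)
  exact key

lemma isIso_bc_of_presentation {U V : C} (g : U ⟶ V) {M : ModSite.Mod O}
    (P : SheafOfModules.Presentation M) : IsIso ((bc O g).app M) :=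
  isIso_bc_of_cokernel O g _ _ _ P.isColimit (isIso_bc_free O g _) (isIso_bc_free O g _)

section terminal

variable {T : C} (hT : IsTerminal T) (M : ModSite.Mod O)

/-- The section extending a section over a terminal object. -/
noncomputable def sectionOf (m : (ev O T).obj M) : SheafOfModules.sections M :=
  PresheafOfModules.sectionsMk (fun W => (M.val.map (hT.from W.unop).op).hom m) (fun W W' f => by
    have : (hT.from W'.unop).op = (hT.from W.unop).op ≫ f :=
      Quiver.Hom.unop_inj (hT.hom_ext _ _)
    rw [this, PresheafOfModules.map_comp_apply])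

variable (h : ∀ W : C, Function.Surjective ((bc O (hT.from W)).app M).hom)

include h in
lemma epi_π : Epi ((SheafOfModules.freeHomEquiv M).symm (sectionOf O hT M)) := by
  set π := (SheafOfModules.freeHomEquiv M).symm (sectionOf O hT M) with hπ
  haveI : (SheafOfModules.forget.{u} (ModSite.ringSh O)).ReflectsEpimorphisms :=
    Functor.reflectsEpimorphisms_of_faithful _
  apply (SheafOfModules.forget.{u} (ModSite.ringSh O)).epi_of_epi_map
  rw [PresheafOfModules.epi_iff_surjective]
  intro W y
  have hs : ∀ (m : (ev O T).obj M), ∃ z,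
      ((ev O W.unop).map π).hom z = res O (hT.from W.unop) M m := by
    intro m
    refine ⟨(SheafOfModules.freeSection (R := ModSite.ringSh O) m).val W, ?_⟩
    have h1 : SheafOfModules.sectionsMap π (SheafOfModules.freeSection m) = sectionOf O hT M m := by
      rw [SheafOfModules.freeSection, ← SheafOfModules.freeHomEquiv_comp_apply, Category.id_comp,
        hπ, Equiv.apply_symm_apply]
    exact congrArg (fun s : SheafOfModules.sections M => s.val W) h1
  suffices ∃ z, ((ev O W.unop).map π).hom z = y from this
  obtain ⟨x, rfl⟩ := h W.unop y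
  induction x using TensorProduct.induction_on with
  | zero => exact ⟨0, by simp; rfl⟩
  | tmul s m =>
    obtain ⟨z, hz⟩ := hs m
    refine ⟨s • z, ?_⟩
    rw [map_smul, hz]
    exact (bc_tmul O (hT.from W.unop) M s m).symm
  | add x y hx hy =>
    obtain ⟨a, ha⟩ := hx
    obtain ⟨b, hb⟩ := hy
    refine ⟨a + b, ?_⟩
    rw [map_add, ha, hb]
    exact (map_add ((bc O (hT.from W.unop)).app M).hom x y).symm

/-- Generators. -/
noncomputable def generators : SheafOfModules.GeneratingSections M where
  I := (ev O T).obj M
  s := sectionOf O hT M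
  epi := epi_π O hT M h

lemma surjective_bc_kernel (hM : ∀ W : C, IsIso ((bc O (hT.from W)).app M)) {I : Type u}
    (π : SheafOfModules.free I ⟶ M) [Epi π] (W : C) :
    Function.Surjective ((bc O (hT.from W)).app (kernel π)).hom := by
  intro k
  haveI := isIso_bc_free O (hT.from W) I
  haveI := hM W
  let β := bc O (hT.from W)
  let G := ev O T ⋙ ModuleCat.extendScalars (O.obj.map (hT.from W).op).hom
  let S : ShortComplex (ModSite.Mod O) := ShortComplex.mk (kernel.ι π) π (kernel.condition π)
  have hS : S.ShortExact :=
    { exact := ShortComplex.exact_of_f_is_kernel _ (kernelIsKernel π) }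
  haveI : PreservesFiniteColimits G := PreservesColimitsOfSize.preservesFiniteColimits.{u, u} G
  haveI : (ModuleCat.extendScalars.{u, u, u} (O.obj.map (hT.from W).op).hom).Additive :=
    (ModuleCat.extendRestrictScalarsAdj.{u, u, u} (O.obj.map (hT.from W).op).hom).left_adjoint_additive
  haveI : G.Additive := inferInstanceAs
    (ev O T ⋙ ModuleCat.extendScalars (O.obj.map (hT.from W).op).hom).Additive
  have hG : (S.map G).Exact :=
    (((Functor.preservesFiniteColimits_tfae G).out 3 0 :).1 ‹_› S hS).1
  have hGe : ∀ z, (G.map π).hom z = 0 → ∃ q, (G.map (kernel.ι π)).hom q = z :=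
    (ShortComplex.moduleCat_exact_iff _).1 hG
  obtain ⟨p, hp⟩ := ((ConcreteCategory.isIso_iff_bijective (β.app (SheafOfModules.free I))).1
    inferInstance).2 (((ev O W).map (kernel.ι π)).hom k)
  have h0 : (G.map π).hom p = 0 := by
    apply ((ConcreteCategory.isIso_iff_bijective (β.app M)).1 inferInstance).1
    refine ((ConcreteCategory.congr_hom (β.naturality π) p)).trans ?_
    refine (congrArg ((ev O W).map π).hom hp).trans ?_
    refine Eq.trans ?_ (map_zero (β.app M).hom).symm
    have : (ev O W).map (kernel.ι π) ≫ (ev O W).map π = 0 := by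
      rw [← Functor.map_comp, kernel.condition, Functor.map_zero]
    exact ConcreteCategory.congr_hom this k
  obtain ⟨q, hq⟩ := hGe p h0
  refine ⟨q, ?_⟩
  apply (ModuleCat.mono_iff_injective ((ev O W).map (kernel.ι π))).1 inferInstance
  refine (ConcreteCategory.congr_hom (β.naturality (kernel.ι π)) q).symm.trans ?_
  exact (congrArg (β.app (SheafOfModules.free I)).hom hq).trans hp

/-- A presentation from the base change criterion. -/
noncomputable def presentation (hM : ∀ W : C, IsIso ((bc O (hT.from W)).app M)) :
    SheafOfModules.Presentation M :=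
  let σ := generators O hT M
    (fun W => ((ConcreteCategory.isIso_iff_bijective _).1 (hM W)).2)
  haveI := σ.epi
  { generators := σ
    relations := generators O hT _ (surjective_bc_kernel O hT M hM σ.π) }

end terminal

/-- The criterion. -/
theorem isQuasicoherent_iff (F : ModSite.Mod O) :
    SheafOfModules.IsQuasicoherent (R := ModSite.ringSh O) F ↔
      ∀ (U V : C) (g : U ⟶ V), IsIso ((bc O g).app F) := by
  constructor
  · rintro ⟨⟨q⟩⟩ U V g
    have := IsChaotic.eq_top _ (q.coversTop V)
    have h1 : Sieve.ofObjects q.X V (𝟙 V) := by rw [this]; trivial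
    obtain ⟨i, ⟨h⟩⟩ := (Sieve.mem_ofObjects_iff ..).1 h1
    have := isIso_bc_of_presentation (O.over (q.X i)) (U := Over.mk (g ≫ h)) (V := Over.mk h)
      (Over.homMk g) (M := F.over (q.X i)) (q.presentation i)
    exact this
  · intro h
    refine SheafOfModules.QuasicoherentData.isQuasicoherent.{u, u, u} (M := F) (R := ModSite.ringSh O)
      { I := C
        X := id
        coversTop := fun X => ?_
        presentation := fun U => presentation (O.over U) Over.mkIdTerminal (F.over U)
          (fun W => h W.left U _) }
    refine J.superset_covering ?_ (J.top_mem X)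
    intro Z g _
    exact (Sieve.mem_ofObjects_iff ..).2 ⟨Z, ⟨𝟙 Z⟩⟩

variable (hO : ∀ (U V : C) (g : U ⟶ V), (O.obj.map g.op).hom.Flat)

include hO in
theorem isQuasicoherent_serre :
    (∀ (F G : ModSite.Mod O) (α : F ⟶ G),
        SheafOfModules.IsQuasicoherent (R := ModSite.ringSh O) F →
        SheafOfModules.IsQuasicoherent (R := ModSite.ringSh O) G →
        SheafOfModules.IsQuasicoherent (R := ModSite.ringSh O) (kernel α) ∧
          SheafOfModules.IsQuasicoherent (R := ModSite.ringSh O) (cokernel α)) ∧
    (∀ (S : ShortComplex (ModSite.Mod O)), S.ShortExact →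
        SheafOfModules.IsQuasicoherent (R := ModSite.ringSh O) S.X₁ →
        SheafOfModules.IsQuasicoherent (R := ModSite.ringSh O) S.X₃ →
        SheafOfModules.IsQuasicoherent (R := ModSite.ringSh O) S.X₂) := by
  refine ⟨fun F G α hF hG => ?_, fun S hS h1 h3 => ?_⟩
  · rw [isQuasicoherent_iff] at hF hG ⊢
    rw [isQuasicoherent_iff]
    refine ⟨fun U V g => ?_, fun U V g => ?_⟩
    · haveI := ModuleCat.preservesFiniteLimits_extendScalars_of_flat (hO U V g)
      exact isIso_app_of_isLimit (bc O g) (limit.cone (parallelPair α 0)) (limit.isLimit _)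
        (by rintro (_ | _); exacts [hF U V g, hG U V g])
    · exact isIso_app_of_isColimit (bc O g) (colimit.cocone (parallelPair α 0)) (colimit.isColimit _)
        (by rintro (_ | _); exacts [hF U V g, hG U V g])
  · rw [isQuasicoherent_iff] at h1 h3 ⊢
    intro U V g
    haveI := ModuleCat.preservesFiniteLimits_extendScalars_of_flat (hO U V g)
    haveI : PreservesFiniteColimits (ev O V) :=
      PreservesColimitsOfSize.preservesFiniteColimits.{u, u} _
    haveI : PreservesFiniteColimits (ev O U) :=
      PreservesColimitsOfSize.preservesFiniteColimits.{u, u} _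
    haveI : PreservesFiniteColimits (ModuleCat.extendScalars.{u, u, u} (O.obj.map g.op).hom) :=
      PreservesColimitsOfSize.preservesFiniteColimits.{u, u} _
    haveI : (ModuleCat.extendScalars.{u, u, u} (O.obj.map g.op).hom).Additive :=
      (ModuleCat.extendRestrictScalarsAdj.{u, u, u} (O.obj.map g.op).hom).left_adjoint_additive
    haveI := h1 U V g
    haveI := h3 U V g
    exact ShortComplex.isIso₂_of_shortExact_of_isIso₁₃' (S.mapNatTrans (bc O g))
      (hS.map_of_exact _) (hS.map_of_exact _) (h1 U V g) (h3 U V g)

end Groth.Agent.Lib.H15.Chaotic.Basic
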